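import Mathlib

/-!
# Sections along surjective closed immersions

Basic lemmas on the kernel of restriction of functions along a surjective closed immersion.
-/

set_option autoImplicit false
set_option backward.isDefEq.respectTransparency false
universe u

open AlgebraicGeometry CategoryTheory TopologicalSpace

namespace Groth.Agent.NilAffine

variable {X Y : Scheme.{u}}

/-- Restriction of functions. -/
abbrev res (X : Scheme.{u}) {U V : X.Opens} (h : U ≤ V) : Γ(X, V) →+* Γ(X, U) :=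
  (X.presheaf.map (homOfLE h).op).hom

theorem res_res {U V W : X.Opens} (h₁ : U ≤ V) (h₂ : V ≤ W) (a : Γ(X, W)) :
    res X h₁ (res X h₂ a) = res X (h₁.trans h₂) a := by
  rw [res, res, res, ← CommRingCat.comp_apply, ← X.presheaf.map_comp]; rfl

theorem res_self {U : X.Opens} (h : U ≤ U) (a : Γ(X, U)) : res X h a = a := by
  rw [res, show (homOfLE h).op = 𝟙 _ from Subsingleton.elim _ _, X.presheaf.map_id]; rfl

theorem app_res (f : X ⟶ Y) {U V : Y.Opens} (h : U ≤ V) (a : Γ(Y, V)) :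
    f.app U (res Y h a) = res X (f.preimage_mono h) (f.app V a) :=
  congr($(f.naturality (homOfLE h).op) a)

/-- Sections agreeing on a cover agree. -/
theorem ext_cover {ι : Type*} {U : X.Opens} (V : ι → X.Opens) (hV : ∀ i, V i ≤ U)
    (hcov : ∀ x ∈ U, ∃ i, x ∈ V i) {a b : Γ(X, U)}
    (h : ∀ i, res X (hV i) a = res X (hV i) b) : a = b := by
  refine TopCat.Presheaf.IsSheaf.section_ext X.sheaf.property fun x hx => ?_
  obtain ⟨i, hi⟩ := hcov x hx
  exact ⟨V i, hV i, hi, h i⟩

/-- Restriction to affines detects vanishing. -/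
theorem eq_zero_of_affine {U : X.Opens} {a : Γ(X, U)}
    (h : ∀ (W : X.affineOpens) (hW : W.1 ≤ U), res X hW a = 0) : a = 0 := by
  refine ext_cover (fun W : {W : X.affineOpens // W.1 ≤ U} => W.1.1) (fun W => W.2) (fun x hx => ?_)
    fun W => by rw [h W.1 W.2, map_zero]
  obtain ⟨W, hW, hxW, hWU⟩ := exists_isAffineOpen_mem_and_subset (X := X) (x := x) (U := U) hx
  exact ⟨⟨⟨W, hW⟩, hWU⟩, hxW⟩

theorem mem_ker_ideal (ι : X ⟶ Y) [QuasiCompact ι] (U : Y.affineOpens) (a : Γ(Y, U.1)) :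
    a ∈ ι.ker.ideal U ↔ ι.app U.1 a = 0 := by
  rw [Scheme.Hom.ker_apply]; rfl

theorem mul_eq_zero_of_sq (ι : X ⟶ Y) [QuasiCompact ι] (hsq : ι.ker ^ 2 = ⊥) {U : Y.Opens}
    (a b : Γ(Y, U)) (ha : ι.app U a = 0) (hb : ι.app U b = 0) : a * b = 0 := by
  refine eq_zero_of_affine fun W hW => ?_
  have h : (ι.ker ^ 2).ideal W = (⊥ : Y.IdealSheafData).ideal W := by rw [hsq]
  rw [Scheme.IdealSheafData.ideal_pow, Pi.pow_apply, Scheme.IdealSheafData.ideal_bot] at h
  rw [← Ideal.mem_bot, ← show (ι.ker.ideal W) ^ 2 = ⊥ from h, map_mul, sq]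
  refine Ideal.mul_mem_mul ?_ ?_
  · rw [mem_ker_ideal, app_res, ha, map_zero]
  · rw [mem_ker_ideal, app_res, hb, map_zero]

section Surj

variable (ι : X ⟶ Y) [IsClosedImmersion ι] [Surjective ι]

theorem preimage_injective {U V : Y.Opens} (h : ι ⁻¹ᵁ U = ι ⁻¹ᵁ V) : U = V := by
  ext y
  obtain ⟨x, rfl⟩ := ι.surjective y
  exact SetLike.ext_iff.mp h x

theorem basicOpen_eq {U : Y.Opens} (F : Γ(Y, U)) {V : Y.Opens}
    (h : X.basicOpen (ι.app U F) = ι ⁻¹ᵁ V) : Y.basicOpen F = V :=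
  preimage_injective ι (by rw [Scheme.preimage_basicOpen, h])

theorem isUnit_of_app {U : Y.Opens} (F : Γ(Y, U)) (h : IsUnit (ι.app U F)) : IsUnit F := by
  have he : Y.basicOpen F = U := basicOpen_eq ι F (Scheme.basicOpen_of_isUnit _ h)
  refine RingedSpace.isUnit_of_isUnit_germ Y.toRingedSpace U F fun x hx => ?_
  exact (Scheme.mem_basicOpen _ F x hx).mp (he.symm ▸ hx)

-- The inverse homeomorphism transports quasi-separatedness. -/
include ι in
theorem quasiSeparatedSpace [QuasiSeparatedSpace X] : QuasiSeparatedSpace Y := by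
  let e : X ≃ₜ Y := Topology.IsEmbedding.toHomeomorphOfSurjective ι.isClosedEmbedding.toIsEmbedding ι.surjective
  exact e.symm.isOpenEmbedding.quasiSeparatedSpace

theorem isNilpotent_of_mem_ker (U : Y.affineOpens) {a : Γ(Y, U.1)} (h : a ∈ ι.ker.ideal U) :
    IsNilpotent a := by
  rw [Scheme.isNilpotent_iff_basicOpen_eq_bot_of_isCompact U.2.isCompact]
  refine basicOpen_eq ι a ?_
  rw [(mem_ker_ideal ι U a).mp h, Scheme.basicOpen_zero]
  rfl

end Surj

end Groth.Agent.NilAffine
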