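import Mathlib
import Groth.Agent.NilAffine.Basic

/-!
# Extending finitely generated ideals

On a quasi-separated scheme, finitely many sections of a quasi-coherent ideal over an affine open lie in a
quasi-coherent subideal which is finitely generated on given affine opens.
-/

set_option autoImplicit false
set_option backward.isDefEq.respectTransparency false
universe u

open AlgebraicGeometry CategoryTheory TopologicalSpace

namespace Groth.Agent.NilAffine

variable {X : Scheme.{u}}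

/-- The closed subscheme of an affine open cut out by an ideal, mapped to the scheme. -/
noncomputable def pieceMap (V : X.affineOpens) (K : Ideal Γ(X, V.1)) :
    Spec (CommRingCat.of (Γ(X, V.1) ⧸ K)) ⟶ X :=
  Spec.map (CommRingCat.ofHom (Ideal.Quotient.mk K)) ≫ V.2.fromSpec

instance (V : X.affineOpens) (K : Ideal Γ(X, V.1)) [QuasiSeparatedSpace X] :
    QuasiCompact (pieceMap V K) :=
  quasiCompact_of_compactSpace (pieceMap V K)

theorem pieceMap_preimage (V : X.affineOpens) (K : Ideal Γ(X, V.1)) : pieceMap V K ⁻¹ᵁ V.1 = ⊤ := by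
  rw [pieceMap, Scheme.Hom.comp_preimage, V.2.fromSpec_preimage_self, Scheme.Hom.preimage_top]

theorem pieceMap_app_eq_zero_iff (V : X.affineOpens) (K : Ideal Γ(X, V.1)) (a : Γ(X, V.1)) :
    (pieceMap V K).app V.1 a = 0 ↔ a ∈ K := by
  have h : (pieceMap V K).app V.1 = CommRingCat.ofHom (Ideal.Quotient.mk K) ≫
      (Scheme.ΓSpecIso (CommRingCat.of (Γ(X, V.1) ⧸ K))).inv ≫
      (Spec (CommRingCat.of (Γ(X, V.1) ⧸ K))).presheaf.map
        (homOfLE (le_top : pieceMap V K ⁻¹ᵁ V.1 ≤ ⊤)).op := by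
    rw [← Category.assoc, Scheme.ΓSpecIso_inv_naturality, pieceMap, Scheme.Hom.comp_app,
      V.2.fromSpec_app_self, Category.assoc, Category.assoc, Scheme.Hom.naturality]
    rfl
  rw [h]
  simp only [CommRingCat.comp_apply, CommRingCat.hom_ofHom]
  haveI : IsIso (homOfLE (le_top : pieceMap V K ⁻¹ᵁ V.1 ≤ ⊤)) :=
    ⟨homOfLE (pieceMap_preimage V K).ge, Subsingleton.elim _ _, Subsingleton.elim _ _⟩
  refine Iff.trans (map_eq_zero_iff _ ?_) (Ideal.Quotient.eq_zero_iff_mem (I := K))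
  exact (ConcreteCategory.bijective_of_isIso _).1

/-- If the restriction of `a` lies in the image of `K`, it dies on the piece. -/
theorem pieceMap_app_eq_zero_of_mem_map (V : X.affineOpens) (K : Ideal Γ(X, V.1)) (D : X.Opens)
    (hD : D ≤ V.1) {a : Γ(X, D)} (ha : a ∈ K.map (res X hD)) : (pieceMap V K).app D a = 0 := by
  rw [← RingHom.mem_ker]
  revert ha a
  rw [← SetLike.le_def, Ideal.map_le_iff_le_comap]
  intro k hk
  rw [Ideal.mem_comap, RingHom.mem_ker, app_res, (pieceMap_app_eq_zero_iff V K k).mpr hk, map_zero]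

/-- Numerators of a finitely generated localisation. -/
theorem exists_fg_le_map_eq {A B : Type u} [CommRing A] [CommRing B] [Algebra A B] (M : Submonoid A)
    [IsLocalization M B] (J : Ideal A) (h : (J.map (algebraMap A B)).FG) :
    ∃ K : Ideal A, K.FG ∧ K ≤ J ∧ K.map (algebraMap A B) = J.map (algebraMap A B) := by
  classical
  obtain ⟨s, hs⟩ := h
  have : ∀ b ∈ s, ∃ a ∈ J, ∃ m ∈ M, b * algebraMap A B m = algebraMap A B a := by
    intro b hb
    have hb' : b ∈ J.map (algebraMap A B) := hs ▸ Submodule.subset_span hb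
    obtain ⟨⟨a, m⟩, he⟩ := (IsLocalization.mem_map_algebraMap_iff M B).mp hb'
    exact ⟨a.1, a.2, m.1, m.2, he⟩
  choose a ha m hm he using this
  refine ⟨Ideal.span ↑(s.attach.image fun b => a b.1 b.2), ⟨_, rfl⟩, ?_, ?_⟩
  · rw [Ideal.span_le]
    intro x hx
    obtain ⟨b, -, rfl⟩ := Finset.mem_image.mp hx
    exact ha _ _
  · refine le_antisymm (Ideal.map_mono (Ideal.span_le.mpr fun x hx => ?_)) ?_
    · obtain ⟨b, -, rfl⟩ := Finset.mem_image.mp hx
      exact ha _ _
    · rw [← hs, Submodule.span_le]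
      intro b hb
      have hu := IsLocalization.map_units B (⟨m b hb, hm b hb⟩ : M)
      rw [SetLike.mem_coe, ← Ideal.mul_unit_mem_iff_mem _ hu, he b hb]
      exact Ideal.mem_map_of_mem _ (Ideal.subset_span
        (Finset.mem_image.mpr ⟨⟨b, hb⟩, Finset.mem_attach _ _, rfl⟩))

theorem map_ideal' (J : X.IdealSheafData) (U V : X.affineOpens) (h : U.1 ≤ V.1) :
    (J.ideal V).map (res X h) = J.ideal U := J.map_ideal h

theorem map_ideal_fg (J : X.IdealSheafData) (U V : X.affineOpens) (h : U.1 ≤ V.1)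
    (hfg : (J.ideal V).FG) : (J.ideal U).FG := by
  rw [← map_ideal' J U V h]; exact hfg.map _

/-- One extension step. -/
theorem extend_step [QuasiSeparatedSpace X] (J : X.IdealSheafData) (L : Finset X.affineOpens)
    (hL : ∀ W ∈ L, (J.ideal W).FG) (V : X.affineOpens) (t : Finset Γ(X, V.1))
    (ht : ∀ a ∈ t, a ∈ J.ideal V) :
    ∃ J' : X.IdealSheafData, J' ≤ J ∧ (∀ W ∈ L, J'.ideal W = J.ideal W) ∧ (J'.ideal V).FG ∧
      ∀ a ∈ t, a ∈ J'.ideal V := by
  classical
  -- finitely many basic opens covering each intersection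
  have hcov : ∀ W : L, ∃ g : Finset Γ(X, V.1),
      (∀ r ∈ g, X.basicOpen r ≤ W.1.1) ∧ ((W.1.1 ⊓ V.1 : X.Opens) : Set X) ⊆ ⋃ r ∈ g, (X.basicOpen r : Set X) := by
    intro W
    have hc : IsCompact ((W.1.1 ⊓ V.1 : X.Opens) : Set X) :=
      QuasiSeparatedSpace.inter_isCompact _ _ W.1.1.2 W.1.2.isCompact V.1.2 V.2.isCompact
    have hp : ∀ x : ↥(W.1.1 ⊓ V.1 : X.Opens), ∃ r : Γ(X, V.1), X.basicOpen r ≤ W.1.1 ∧ x.1 ∈ X.basicOpen r := by
      intro x
      obtain ⟨f, g, e, hf⟩ := exists_basicOpen_le_affine_inter W.1.2 V.2 x.1 x.2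
      exact ⟨g, e ▸ X.basicOpen_le f, e ▸ hf⟩
    choose r hr hxr using hp
    obtain ⟨s, hs⟩ := hc.elim_finite_subcover (fun x => (X.basicOpen (r x) : Set X))
      (fun x => (X.basicOpen (r x)).2) (fun x hx => Set.mem_iUnion.mpr ⟨⟨x, hx⟩, hxr _⟩)
    refine ⟨s.image r, fun q hq => ?_, fun x hx => ?_⟩
    · obtain ⟨x, -, rfl⟩ := Finset.mem_image.mp hq
      exact hr x
    · obtain ⟨y, hy, hxy⟩ := Set.mem_iUnion₂.mp (hs hx)
      exact Set.mem_iUnion₂.mpr ⟨r y, Finset.mem_image_of_mem r hy, hxy⟩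
  choose g hgW hgcov using hcov
  have hnum : ∀ (W : L) (r : g W), ∃ K : Ideal Γ(X, V.1), K.FG ∧ K ≤ J.ideal V ∧
      K.map (res X (X.basicOpen_le r.1)) = J.ideal (X.affineBasicOpen r.1) := by
    intro W r
    haveI := V.2.isLocalization_basicOpen r.1
    have hfg : ((J.ideal V).map (algebraMap Γ(X, V.1) Γ(X, X.basicOpen r.1))).FG := by
      have h : (J.ideal V).map (res X (X.basicOpen_le r.1)) = J.ideal (X.affineBasicOpen r.1) :=
        J.map_ideal_basicOpen V r.1
      exact h ▸ map_ideal_fg J _ W.1 (hgW W r.1 r.2) (hL W.1 W.2)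
    obtain ⟨K, h1, h2, h3⟩ := exists_fg_le_map_eq (Submonoid.powers r.1) (J.ideal V) hfg
    exact ⟨K, h1, h2, h3.trans (J.map_ideal_basicOpen V r.1)⟩
  choose K0 hK0fg hK0le hK0map using hnum
  let K : Ideal Γ(X, V.1) := Ideal.span t ⊔ ⨆ p : Σ W : L, g W, K0 p.1 p.2
  have hKle : K ≤ J.ideal V := sup_le (Ideal.span_le.mpr ht) (iSup_le fun p => hK0le _ _)
  refine ⟨J ⊓ (pieceMap V K).ker, inf_le_left, fun W hW => ?_, ?_, fun a ha => ?_⟩
  · rw [Scheme.IdealSheafData.ideal_inf, Pi.inf_apply, inf_eq_left]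
    intro a ha
    rw [mem_ker_ideal]
    refine ext_cover (fun r : g ⟨W, hW⟩ => pieceMap V K ⁻¹ᵁ X.basicOpen r.1)
      (fun r => (pieceMap V K).preimage_mono (hgW _ r.1 r.2)) (fun z hz => ?_) (fun r => ?_)
    · have hzV : z ∈ pieceMap V K ⁻¹ᵁ V.1 := by rw [pieceMap_preimage]; trivial
      obtain ⟨r, hr, hzr⟩ := Set.mem_iUnion₂.mp (hgcov ⟨W, hW⟩ (show pieceMap V K z ∈ (W.1 ⊓ V.1 : X.Opens) from ⟨hz, hzV⟩))
      exact ⟨⟨r, hr⟩, hzr⟩
    · rw [map_zero, ← app_res _ (hgW _ r.1 r.2)]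
      refine pieceMap_app_eq_zero_of_mem_map V K _ (X.basicOpen_le r.1) ?_
      refine Ideal.map_mono (show K0 ⟨W, hW⟩ r ≤ K from le_sup_of_le_right
        (le_iSup (fun p : Σ W : L, g W => K0 p.1 p.2) ⟨⟨W, hW⟩, r⟩)) ?_
      rw [hK0map]
      exact (map_ideal' J (X.affineBasicOpen r.1) W (hgW _ r.1 r.2)).le (Ideal.mem_map_of_mem _ ha)
  · have h : (J ⊓ (pieceMap V K).ker).ideal V = K := by
      rw [Scheme.IdealSheafData.ideal_inf, Pi.inf_apply]
      have hk : (pieceMap V K).ker.ideal V = K := by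
        ext a; rw [mem_ker_ideal, pieceMap_app_eq_zero_iff]
      rw [hk, inf_eq_right.mpr hKle]
    rw [h]
    exact Submodule.FG.sup ⟨t, rfl⟩ (Submodule.fg_iSup _ fun p => hK0fg _ _)
  · rw [Scheme.IdealSheafData.ideal_inf, Pi.inf_apply]
    refine ⟨ht a ha, ?_⟩
    show a ∈ (pieceMap V K).ker.ideal V
    rw [mem_ker_ideal, pieceMap_app_eq_zero_iff]
    exact le_sup_left (α := Ideal Γ(X, V.1)) (Ideal.subset_span ha)

/-- Finitely many sections of an ideal over an affine open lie in a subideal finitely generated on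
given affine opens. -/
theorem exists_fg_subideal [QuasiSeparatedSpace X] (I : X.IdealSheafData) (U : X.affineOpens)
    (t : Finset Γ(X, U.1)) (ht : ∀ a ∈ t, a ∈ I.ideal U) (L : Finset X.affineOpens) :
    ∃ J : X.IdealSheafData, J ≤ I ∧ (∀ W ∈ L, (J.ideal W).FG) ∧ ∀ a ∈ t, a ∈ J.ideal U := by
  classical
  suffices h : ∃ J : X.IdealSheafData, J ≤ I ∧ (∀ W ∈ insert U L, (J.ideal W).FG) ∧ ∀ a ∈ t, a ∈ J.ideal U by
    obtain ⟨J, h1, h2, h3⟩ := h
    exact ⟨J, h1, fun W hW => h2 W (Finset.mem_insert_of_mem hW), h3⟩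
  induction L using Finset.induction_on with
  | empty =>
    obtain ⟨J, h1, -, h2, h3⟩ := extend_step I ∅ (by simp) U t ht
    exact ⟨J, h1, by simpa using h2, h3⟩
  | @insert V L _ ih =>
    obtain ⟨J, h1, h2, h3⟩ := ih
    obtain ⟨J', h1', heq, hV, -⟩ := extend_step J (insert U L) h2 V ∅ (by simp)
    refine ⟨J', h1'.trans h1, fun W hW => ?_, fun a ha => ?_⟩
    · rw [Finset.insert_comm] at hW
      rcases Finset.mem_insert.mp hW with rfl | hW
      · exact hV
      · rw [heq W hW]; exact h2 W hW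
    · rw [heq U (Finset.mem_insert_self _ _)]; exact h3 a ha

end Groth.Agent.NilAffine
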