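import Mathlib
import Groth.Agent.NilAffine.Basic

/-!
# Lifting functions along a square zero thickening of an affine scheme
-/

set_option autoImplicit false
set_option backward.isDefEq.respectTransparency false
universe u

open AlgebraicGeometry CategoryTheory TopologicalSpace

namespace Groth.Agent.NilAffine

variable {X Y : Scheme.{u}} (ι : X ⟶ Y)

/-- An affine cover of the thickening whose traces are basic opens generating the unit ideal. -/
structure BasicCover where
  /-- indices -/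
  J : Type u
  [fin : Fintype J]
  /-- affine opens of the thickening -/
  V : J → Y.affineOpens
  /-- their equations -/
  f : J → Γ(X, ⊤)
  trace : ∀ l, ι ⁻¹ᵁ (V l).1 = X.basicOpen (f l)
  span : Ideal.span (Set.range f) = ⊤

attribute [instance] BasicCover.fin

variable [IsClosedImmersion ι] [Surjective ι]

theorem exists_basicCover [IsAffine X] : Nonempty (BasicCover ι) := by
  classical
  have hp : ∀ x : X, ∃ (V : Y.affineOpens) (f : Γ(X, ⊤)), ι ⁻¹ᵁ V.1 = X.basicOpen f ∧ x ∈ X.basicOpen f := by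
    intro x
    obtain ⟨U, hU, hxU, -⟩ := exists_isAffineOpen_mem_and_subset (X := Y) (x := ι x) (U := ⊤) trivial
    obtain ⟨f, hf, hxf⟩ := (isAffineOpen_top X).exists_basicOpen_le (V := ι ⁻¹ᵁ U) ⟨x, hxU⟩ trivial
    obtain ⟨F, hF⟩ := ι.app_surjective U hU (res X (le_top : ι ⁻¹ᵁ U ≤ ⊤) f)
    refine ⟨⟨Y.basicOpen F, hU.basicOpen F⟩, f, ?_, hxf⟩
    show ι ⁻¹ᵁ Y.basicOpen F = _
    rw [Scheme.preimage_basicOpen, hF]
    exact (X.basicOpen_res f _).trans (inf_eq_right.mpr hf)
  choose V f htr hxf using hp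
  obtain ⟨s, hs⟩ := isCompact_univ.elim_finite_subcover (fun x => (X.basicOpen (f x) : Set X))
    (fun x => (X.basicOpen (f x)).2) (fun x _ => Set.mem_iUnion.mpr ⟨x, hxf x⟩)
  refine ⟨{ J := s, V := fun x => V x.1, f := fun x => f x.1, trace := fun x => htr x.1, span := ?_ }⟩
  rw [← (isAffineOpen_top X).iSup_basicOpen_eq_self_iff]
  refine top_le_iff.mp fun x _ => ?_
  obtain ⟨y, hy, hxy⟩ := Set.mem_iUnion₂.mp (hs (Set.mem_univ x))
  exact Opens.mem_iSup.mpr ⟨⟨f y, ⟨⟨y, hy⟩, rfl⟩⟩, hxy⟩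

variable {ι}

theorem BasicCover.cover (C : BasicCover ι) [IsAffine X] (y : Y) : ∃ l, y ∈ (C.V l).1 := by
  obtain ⟨x, rfl⟩ := ι.surjective y
  have h := ((isAffineOpen_top X).iSup_basicOpen_eq_self_iff (s := Set.range C.f)).mpr C.span
  obtain ⟨⟨_, l, rfl⟩, hl⟩ := Opens.mem_iSup.mp
    (show x ∈ ⨆ i : Set.range C.f, X.basicOpen i.1 by rw [h]; trivial)
  refine ⟨l, ?_⟩
  show x ∈ ι ⁻¹ᵁ (C.V l).1
  rw [C.trace]; exact hl

theorem basicOpen_eq_inf {U W : Y.Opens} (F : Γ(Y, U)) (f : Γ(X, ⊤)) (hW : ι ⁻¹ᵁ W = X.basicOpen f)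
    (hF : ι.app U F = res X le_top f) : Y.basicOpen F = U ⊓ W := by
  refine basicOpen_eq ι F ?_
  rw [hF, Scheme.Hom.preimage_inf, hW]
  exact X.basicOpen_res f _

/-- A compatible family of local lifts gives a global lift. -/
theorem exists_lift_of_family {K : Type u} (V : K → Y.Opens) (hV : ∀ y : Y, ∃ i, y ∈ V i) (g : Γ(X, ⊤))
    (G : ∀ i, Γ(Y, V i)) (hG : ∀ i, ι.app (V i) (G i) = res X le_top g)
    (hc : ∀ i j, res Y inf_le_left (G i) = res Y (inf_le_right : V i ⊓ V j ≤ V j) (G j)) :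
    ∃ H : Γ(Y, ⊤), ι.appTop H = g := by
  obtain ⟨H, hH, -⟩ := Y.sheaf.existsUnique_gluing' V ⊤ (fun i => homOfLE le_top)
    (fun y _ => Opens.mem_iSup.mpr (hV y)) G (fun i j => hc i j)
  refine ⟨H, ext_cover (fun i => ι ⁻¹ᵁ V i) (fun _ => le_top) (fun x _ => hV (ι x)) fun i => ?_⟩
  rw [← hG i, ← hH i]
  exact (app_res ι (le_top : V i ≤ ⊤) H).symm

/-- Clearing denominators inside the kernel. -/
theorem exists_extend {U D : Y.Opens} (hU : IsAffineOpen U) (F : Γ(Y, U)) (hD : Y.basicOpen F = D)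
    (hle : D ≤ U) (c : Γ(Y, D)) (hc : ι.app D c = 0) :
    ∃ (n : ℕ) (e : Γ(Y, U)), ι.app U e = 0 ∧ res Y hle e = res Y hle F ^ n * c := by
  subst hD
  haveI := hU.isLocalization_basicOpen F
  obtain ⟨n, e, he⟩ := IsLocalization.Away.surj F c
  have he' : c * res Y hle F ^ n = res Y hle e := he
  have h0 : ι.app (Y.basicOpen F) (res Y hle e) = 0 := by rw [← he', map_mul, hc, zero_mul]
  rw [app_res] at h0
  haveI := (hU.preimage ι).isLocalization_basicOpen (ι.app U F)
  have hpre : X.basicOpen (ι.app U F) = ι ⁻¹ᵁ Y.basicOpen F := (Scheme.preimage_basicOpen ι F).symm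
  have h1 : algebraMap Γ(X, ι ⁻¹ᵁ U) Γ(X, X.basicOpen (ι.app U F)) (ι.app U e) = 0 := by
    show res X (X.basicOpen_le _) (ι.app U e) = 0
    rw [← res_res (le_of_eq hpre) (ι.preimage_mono hle), h0, map_zero]
  obtain ⟨⟨_, m, rfl⟩, hm⟩ := (IsLocalization.map_eq_zero_iff (Submonoid.powers (ι.app U F)) _ _).mp h1
  refine ⟨m + n, F ^ m * e, ?_, ?_⟩
  · rw [map_mul, map_pow]; exact hm
  · rw [map_mul, map_pow, ← he', pow_add]; ring

theorem exists_pow_mul_eq_zero {U D : Y.Opens} (hU : IsAffineOpen U) (F : Γ(Y, U)) (hD : Y.basicOpen F = D)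
    (hle : D ≤ U) (d : Γ(Y, U)) (h : res Y hle d = 0) : ∃ m : ℕ, F ^ m * d = 0 := by
  subst hD
  haveI := hU.isLocalization_basicOpen F
  obtain ⟨⟨_, m, rfl⟩, hm⟩ := (IsLocalization.map_eq_zero_iff (Submonoid.powers F) Γ(Y, Y.basicOpen F) d).mp h
  exact ⟨m, hm⟩

/-- Multiplication of an element of the kernel only depends on the image. -/
theorem mul_eq_mul_of_app_eq (hsq : ι.ker ^ 2 = ⊥) {U : Y.Opens} {a b k : Γ(Y, U)}
    (hab : ι.app U a = ι.app U b) (hk : ι.app U k = 0) : a * k = b * k := by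
  have h := mul_eq_zero_of_sq ι hsq (a - b) k (by rw [map_sub, hab, sub_self]) hk
  rwa [sub_mul, sub_eq_zero] at h

/-- Along a square zero thickening of an affine scheme global functions lift. -/
theorem exists_lift_of_sq [IsAffine X] (hsq : ι.ker ^ 2 = ⊥) (g : Γ(X, ⊤)) :
    ∃ H : Γ(Y, ⊤), ι.appTop H = g := by
  classical
  obtain ⟨C⟩ := exists_basicCover ι
  let V : C.J → Y.Opens := fun i => (C.V i).1
  have hV : ∀ i, IsAffineOpen (V i) := fun i => (C.V i).2
  have hlift : ∀ (i : C.J) (a : Γ(X, ⊤)), ∃ A : Γ(Y, V i), ι.app (V i) A = res X le_top a := fun i a =>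
    ι.app_surjective (V i) (hV i) _
  choose lift hlift using hlift
  have hFbo : ∀ i l, Y.basicOpen (lift i (C.f l)) = V i ⊓ V l := fun i l =>
    basicOpen_eq_inf _ (C.f l) (C.trace l) (hlift i _)
  have hc : ∀ i l, ι.app (V i ⊓ V l)
      (res Y inf_le_left (lift i g) - res Y inf_le_right (lift l g)) = 0 := by
    intro i l
    rw [map_sub, app_res, app_res, hlift, hlift, res_res, res_res, sub_self]
  have hext : ∀ i l, ∃ (n : ℕ) (e : Γ(Y, V i)), ι.app (V i) e = 0 ∧
      res Y (inf_le_left : V i ⊓ V l ≤ V i) e = res Y inf_le_left (lift i (C.f l)) ^ n *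
        (res Y inf_le_left (lift i g) - res Y inf_le_right (lift l g)) := fun i l =>
    exists_extend (hV i) _ (hFbo i l) _ _ (hc i l)
  choose n e he0 hen using hext
  let N := Finset.univ.sup fun p : C.J × C.J => n p.1 p.2
  have hnN : ∀ i l, n i l ≤ N := fun i l => Finset.le_sup (f := fun p : C.J × C.J => n p.1 p.2) (Finset.mem_univ (i, l))
  let e' : ∀ i l, Γ(Y, V i) := fun i l => lift i (C.f l) ^ (N - n i l) * e i l
  have he'0 : ∀ i l, ι.app (V i) (e' i l) = 0 := fun i l => by simp only [e', map_mul, he0, mul_zero]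
  have he'n : ∀ i l, res Y (inf_le_left : V i ⊓ V l ≤ V i) (e' i l) =
      res Y inf_le_left (lift i (C.f l)) ^ N *
        (res Y inf_le_left (lift i g) - res Y inf_le_right (lift l g)) := fun i l => by
    simp only [e', map_mul, map_pow, hen]
    rw [← mul_assoc, ← pow_add, Nat.sub_add_cancel (hnN i l)]
  have happ : ∀ (i : C.J) (a : Γ(X, ⊤)) {D : Y.Opens} (h : D ≤ V i),
      ι.app D (res Y h (lift i a)) = res X le_top a := fun i a D h => by
    rw [app_res, hlift, res_res]
  have hres0 : ∀ {U D : Y.Opens} (h : D ≤ U) (k : Γ(Y, U)), ι.app U k = 0 → ι.app D (res Y h k) = 0 :=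
    fun h k hk => by rw [app_res, hk, map_zero]
  have htriple : ∀ i j l, ∃ m : ℕ, res Y (inf_le_left : V i ⊓ V j ≤ V i) (lift i (C.f l)) ^ m *
      (res Y inf_le_left (e' i l) - res Y inf_le_right (e' j l) -
        res Y inf_le_left (lift i (C.f l)) ^ N *
          (res Y inf_le_left (lift i g) - res Y inf_le_right (lift j g))) = 0 := by
    intro i j l
    have haff : IsAffineOpen (V i ⊓ V j) := hFbo i j ▸ (hV i).basicOpen _
    refine exists_pow_mul_eq_zero haff _ (basicOpen_eq_inf _ (C.f l) (C.trace l) (happ i _ _))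
      (inf_le_left : (V i ⊓ V j) ⊓ V l ≤ V i ⊓ V j) _ ?_
    have h1 : (V i ⊓ V j) ⊓ V l ≤ V i ⊓ V l := inf_le_inf_right _ inf_le_left
    have h2 : (V i ⊓ V j) ⊓ V l ≤ V j ⊓ V l := inf_le_inf_right _ inf_le_right
    have hk := congrArg (res Y h1) (he'n i l)
    have hk' := congrArg (res Y h2) (he'n j l)
    simp only [map_mul, map_pow, map_sub, res_res] at hk hk'
    simp only [map_sub, map_mul, map_pow, res_res]
    rw [hk, hk', mul_eq_mul_of_app_eq hsq
      (a := res Y (inf_le_left.trans inf_le_right) (lift j (C.f l)) ^ N)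
      (b := res Y (inf_le_left.trans inf_le_left) (lift i (C.f l)) ^ N)]
    · ring
    · simp only [map_pow, happ]
    · simp only [map_sub, happ, sub_self]
  choose m hm using htriple
  let M := Finset.univ.sup fun p : C.J × C.J × C.J => m p.1 p.2.1 p.2.2
  have hM : ∀ i j l, res Y (inf_le_left : V i ⊓ V j ≤ V i) (lift i (C.f l)) ^ M *
      (res Y inf_le_left (e' i l) - res Y inf_le_right (e' j l)) =
        res Y inf_le_left (lift i (C.f l)) ^ (N + M) *
          (res Y inf_le_left (lift i g) - res Y inf_le_right (lift j g)) := by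
    intro i j l
    have hle : m i j l ≤ M :=
      Finset.le_sup (f := fun p : C.J × C.J × C.J => m p.1 p.2.1 p.2.2) (Finset.mem_univ (i, j, l))
    have h : res Y (inf_le_left : V i ⊓ V j ≤ V i) (lift i (C.f l)) ^ M *
      (res Y inf_le_left (e' i l) - res Y inf_le_right (e' j l) -
        res Y inf_le_left (lift i (C.f l)) ^ N *
          (res Y inf_le_left (lift i g) - res Y inf_le_right (lift j g))) = 0 := by
      rw [← Nat.sub_add_cancel hle, pow_add, mul_assoc, hm, mul_zero]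
    rw [mul_sub, sub_eq_zero, ← mul_assoc, ← pow_add, add_comm M N] at h
    exact h
  have hspan : Ideal.span (Set.range fun l => C.f l ^ (N + M)) = ⊤ := by
    have h2 := Ideal.span_pow_eq_top _ C.span (N + M)
    rwa [← Set.range_comp] at h2
  obtain ⟨a, ha⟩ := (Ideal.mem_span_range_iff_exists_fun).mp ((Ideal.eq_top_iff_one _).mp hspan)
  let s : ∀ i, Γ(Y, V i) := fun i => ∑ l, lift i (a l) * lift i (C.f l) ^ M * e' i l
  have hs0 : ∀ i, ι.app (V i) (s i) = 0 := fun i => by simp [s, he'0]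
  refine exists_lift_of_family V C.cover g (fun i => lift i g - s i)
    (fun i => by rw [map_sub, hlift, hs0, sub_zero]) fun i j => ?_
  rw [map_sub, map_sub, sub_eq_sub_iff_sub_eq_sub]
  symm
  have hj : res Y (inf_le_right : V i ⊓ V j ≤ V j) (s j) = ∑ l, res Y inf_le_left (lift i (a l)) *
      res Y inf_le_left (lift i (C.f l)) ^ M * res Y inf_le_right (e' j l) := by
    simp only [s, map_sum, map_mul, map_pow]
    refine Finset.sum_congr rfl fun l _ => mul_eq_mul_of_app_eq hsq ?_ (hres0 _ _ (he'0 j l))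
    simp only [map_mul, map_pow, happ]
  rw [hj]
  simp only [s, map_sum, map_mul, map_pow, ← Finset.sum_sub_distrib, ← mul_sub]
  rw [Finset.sum_congr rfl fun l _ => by rw [mul_assoc, hM i j l, ← mul_assoc], ← Finset.sum_mul]
  refine (mul_eq_mul_of_app_eq hsq ?_ (hc i j)).trans (one_mul _)
  simp only [map_sum, map_mul, map_pow, map_one, happ]
  rw [← map_one (res X (le_top : ι ⁻¹ᵁ (V i ⊓ V j) ≤ ⊤)), ← ha]
  simp only [map_sum, map_mul, map_pow]

end Groth.Agent.NilAffine
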