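import Mathlib
import Groth.Agent.NilAffine.Lift
import Groth.Agent.NilAffine.Extend

/-!
# A scheme with an affine thickened subscheme is affine
-/

set_option autoImplicit false
set_option backward.isDefEq.respectTransparency false
universe u

open AlgebraicGeometry CategoryTheory TopologicalSpace

namespace Groth.Agent.NilAffine

variable {X Y : Scheme.{u}}

/-- Affineness from lifts of the equations of a basic cover and of a partition of unity. -/
theorem isAffine_of_lifts (ι : X ⟶ Y) [IsClosedImmersion ι] [Surjective ι] [IsAffine X] (C : BasicCover ι)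
    (a : C.J → Γ(X, ⊤)) (ha : ∑ l, a l * C.f l = 1) (hf : ∀ l, ∃ F : Γ(Y, ⊤), ι.appTop F = C.f l)
    (hA : ∀ l, ∃ A : Γ(Y, ⊤), ι.appTop A = a l) : IsAffine Y := by
  choose F hF using hf
  choose A hA using hA
  refine isAffine_of_isAffineOpen_basicOpen (Set.range F) ?_ ?_
  · refine Ideal.eq_top_of_isUnit_mem _ (Ideal.sum_mem _ (t := Finset.univ) (f := fun l => A l * F l)
      fun l _ => Ideal.mul_mem_left _ _ (Ideal.subset_span ⟨l, rfl⟩)) ?_
    refine isUnit_of_app ι _ ?_
    show IsUnit (ι.appTop _)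
    simp only [map_sum, map_mul, hF, hA, ha, isUnit_one]
  · rintro _ ⟨l, rfl⟩
    rw [basicOpen_eq ι (F l) (V := (C.V l).1) (by rw [C.trace]; exact congrArg _ (hF l))]
    exact (C.V l).2

theorem isAffine_of_sq (ι : X ⟶ Y) [IsClosedImmersion ι] [Surjective ι] [IsAffine X]
    (h : ι.ker ^ 2 = ⊥) : IsAffine Y := by
  obtain ⟨C⟩ := exists_basicCover ι
  obtain ⟨a, ha⟩ := Ideal.mem_span_range_iff_exists_fun.mp ((Ideal.eq_top_iff_one _).mp C.span)
  exact isAffine_of_lifts ι C a ha (fun l => exists_lift_of_sq h _) (fun l => exists_lift_of_sq h _)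

theorem affineOpens_cover (Y : Scheme.{u}) (y : Y) : ∃ U : Y.affineOpens, y ∈ U.1 := by
  obtain ⟨U, hU, hy, -⟩ := exists_isAffineOpen_mem_and_subset (X := Y) (x := y) (U := ⊤) trivial
  exact ⟨⟨U, hU⟩, hy⟩

/-- Factoring through a closed subscheme containing the thin scheme. -/
theorem exists_factor (ι : X ⟶ Y) [IsClosedImmersion ι] [Surjective ι] (J : Y.IdealSheafData)
    (hJ : J ≤ ι.ker) :
    ∃ u : X ⟶ J.subscheme, u ≫ J.subschemeι = ι ∧ IsClosedImmersion u ∧ Surjective u := by
  let u := IsClosedImmersion.lift J.subschemeι ι (by rwa [Scheme.IdealSheafData.ker_subschemeι])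
  have hu : u ≫ J.subschemeι = ι := IsClosedImmersion.lift_fac _ _ _
  haveI : IsClosedImmersion (u ≫ J.subschemeι) := hu ▸ inferInstance
  refine ⟨u, hu, IsClosedImmersion.of_comp u J.subschemeι, ⟨fun z => ?_⟩⟩
  obtain ⟨x, hx⟩ := ι.surjective (J.subschemeι z)
  refine ⟨x, J.subschemeι.isClosedEmbedding.injective ?_⟩
  rw [← Scheme.Hom.comp_apply, hu, hx]

theorem isAffine_of_nilpotent : ∀ (n : ℕ) {X Y : Scheme.{u}} (ι : X ⟶ Y) [IsClosedImmersion ι] [Surjective ι]
    [IsAffine X], ι.ker ^ n = ⊥ → IsAffine Y := by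
  intro n
  induction n using Nat.strong_induction_on with
  | _ n ih =>
    intro X Y ι _ _ _ h
    have hpow : ∀ k, n ≤ k → ι.ker ^ k = ⊥ := fun k hk => by
      ext1
      funext U
      have h2 : (ι.ker ^ n).ideal U = (⊥ : Y.IdealSheafData).ideal U := by rw [h]
      rw [Scheme.IdealSheafData.ideal_pow, Pi.pow_apply, Scheme.IdealSheafData.ideal_bot, Pi.bot_apply] at h2
      rw [Scheme.IdealSheafData.ideal_pow, Pi.pow_apply, Scheme.IdealSheafData.ideal_bot, Pi.bot_apply,
        ← Nat.sub_add_cancel hk, pow_add, h2, Ideal.mul_bot]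
    by_cases hn : n ≤ 2
    · exact isAffine_of_sq ι (hpow 2 hn)
    let J := ι.ker ^ 2
    obtain ⟨u, hu, _, _⟩ := exists_factor ι J (fun U => by
      rw [Scheme.IdealSheafData.ideal_pow, Pi.pow_apply]; exact Ideal.pow_le_self two_ne_zero)
    haveI : IsAffine J.subscheme := by
      refine isAffine_of_sq u ?_
      refine Scheme.IdealSheafData.ext_of_iSup_eq_top
        (fun U : Y.affineOpens => ⟨J.subschemeι ⁻¹ᵁ U.1, U.2.preimage _⟩) ?_ fun U => ?_
      · refine top_le_iff.mp fun z _ => ?_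
        obtain ⟨U, hU⟩ := affineOpens_cover Y (J.subschemeι z)
        exact Opens.mem_iSup.mpr ⟨U, hU⟩
      · rw [Scheme.IdealSheafData.ideal_pow, Pi.pow_apply, Scheme.IdealSheafData.ideal_bot, Pi.bot_apply,
          eq_bot_iff, sq, Ideal.mul_le]
        intro p hp q hq
        obtain ⟨a, rfl⟩ := J.subschemeι.app_surjective U.1 U.2 p
        obtain ⟨b, rfl⟩ := J.subschemeι.app_surjective U.1 U.2 q
        have hmem : ∀ c, J.subschemeι.app U.1 c ∈ u.ker.ideal ⟨J.subschemeι ⁻¹ᵁ U.1, U.2.preimage _⟩ →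
            c ∈ ι.ker.ideal U := by
          intro c hc
          rw [mem_ker_ideal] at hc ⊢
          have e := Scheme.Hom.congr_app hu U.1
          rw [Scheme.Hom.comp_app] at e
          have e2 := ConcreteCategory.congr_hom e c
          simp only [CommRingCat.comp_apply, hc] at e2
          exact (map_eq_zero_iff _ (ConcreteCategory.bijective_of_isIso _).1).mp e2.symm
        rw [Ideal.mem_bot, ← map_mul]
        have hk := J.ker_subschemeι_app U
        rw [SetLike.ext_iff] at hk
        refine (hk (a * b)).mpr ?_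
        rw [Scheme.IdealSheafData.ideal_pow, Pi.pow_apply, sq]
        exact Ideal.mul_mem_mul (hmem a hp) (hmem b hq)
    haveI : Surjective J.subschemeι := ⟨fun y => by
      obtain ⟨x, rfl⟩ := ι.surjective y
      exact ⟨u x, by rw [← Scheme.Hom.comp_apply, hu]⟩⟩
    refine ih (n - 1) (by omega) J.subschemeι ?_
    rw [Scheme.IdealSheafData.ker_subschemeι]
    have h2 := hpow (2 * (n - 1)) (by omega)
    ext1
    funext U
    have h3 : (ι.ker ^ (2 * (n - 1))).ideal U = (⊥ : Y.IdealSheafData).ideal U := by rw [h2]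
    rw [Scheme.IdealSheafData.ideal_pow, Pi.pow_apply, pow_mul] at h3
    rw [Scheme.IdealSheafData.ideal_pow, Pi.pow_apply, Scheme.IdealSheafData.ideal_pow, Pi.pow_apply]
    exact h3

/-- A scheme receiving a surjective closed immersion from an affine scheme is affine. -/
theorem isAffine_of_surjective (ι : X ⟶ Y) [IsClosedImmersion ι] [Surjective ι] [IsAffine X] : IsAffine Y := by
  classical
  haveI := quasiSeparatedSpace ι
  obtain ⟨C⟩ := exists_basicCover ι
  obtain ⟨a, ha⟩ := Ideal.mem_span_range_iff_exists_fun.mp ((Ideal.eq_top_iff_one _).mp C.span)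
  let V : C.J → Y.Opens := fun i => (C.V i).1
  have hlift : ∀ (i : C.J) (g : Γ(X, ⊤)), ∃ A : Γ(Y, V i), ι.app (V i) A = res X le_top g := fun i g =>
    ι.app_surjective (V i) (C.V i).2 _
  choose lift hlift using hlift
  have haff : ∀ p : C.J × C.J, IsAffineOpen (V p.1 ⊓ V p.2) := fun p =>
    basicOpen_eq_inf _ (C.f p.2) (C.trace p.2) (hlift p.1 _) ▸ (C.V p.1).2.basicOpen _
  let W : C.J × C.J → Y.affineOpens := fun p => ⟨V p.1 ⊓ V p.2, haff p⟩
  let S : Finset Γ(X, ⊤) := Finset.univ.image C.f ∪ Finset.univ.image a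
  let δ : ∀ p : C.J × C.J, Γ(X, ⊤) → Γ(Y, (W p).1) := fun p g =>
    res Y inf_le_left (lift p.1 g) - res Y inf_le_right (lift p.2 g)
  have hδ : ∀ p g, δ p g ∈ ι.ker.ideal (W p) := fun p g => by
    rw [mem_ker_ideal]
    show ι.app (V p.1 ⊓ V p.2) (res Y inf_le_left (lift p.1 g) - res Y inf_le_right (lift p.2 g)) = 0
    rw [map_sub, app_res, app_res, hlift, hlift, res_res, res_res, sub_self]
  have hJ : ∀ p, ∃ J : Y.IdealSheafData, J ≤ ι.ker ∧ (∀ U ∈ Finset.univ.image C.V, (J.ideal U).FG) ∧
      ∀ x ∈ S.image (δ p), x ∈ J.ideal (W p) := fun p =>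
    exists_fg_subideal ι.ker (W p) (S.image (δ p))
      (fun x hx => by obtain ⟨g, -, rfl⟩ := Finset.mem_image.mp hx; exact hδ p g) _
  choose J hJle hJfg hJmem using hJ
  let K : Y.IdealSheafData := Finset.univ.sup J
  have hKle : K ≤ ι.ker := Finset.sup_le fun p _ => hJle p
  have hKfg : ∀ i, (K.ideal (C.V i)).FG := by
    intro i
    have : ∀ s : Finset (C.J × C.J), ((s.sup J).ideal (C.V i)).FG := by
      intro s
      induction s using Finset.induction_on with
      | empty =>
        rw [Finset.sup_empty, Scheme.IdealSheafData.ideal_bot, Pi.bot_apply]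
        exact Submodule.fg_bot
      | insert p s _ ih =>
        rw [Finset.sup_insert, Scheme.IdealSheafData.ideal_sup, Pi.sup_apply]
        exact Submodule.FG.sup (hJfg p (C.V i) (Finset.mem_image_of_mem _ (Finset.mem_univ i))) ih
    exact this _
  have hKnil : ∀ i, IsNilpotent (K.ideal (C.V i)) := fun i =>
    (hKfg i).isNilpotent_iff_le_nilradical.mpr fun x hx =>
      isNilpotent_of_mem_ker ι (C.V i) (hKle (C.V i) hx)
  choose nn hnn using hKnil
  have hKpow : K.subschemeι.ker ^ (Finset.univ.sup nn) = ⊥ := by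
    rw [Scheme.IdealSheafData.ker_subschemeι]
    refine Scheme.IdealSheafData.ext_of_iSup_eq_top C.V (top_le_iff.mp fun y _ => ?_) fun i => ?_
    · exact Opens.mem_iSup.mpr (C.cover y)
    · rw [Scheme.IdealSheafData.ideal_pow, Pi.pow_apply, Scheme.IdealSheafData.ideal_bot, Pi.bot_apply,
        ← Nat.sub_add_cancel (Finset.le_sup (f := nn) (Finset.mem_univ i)), pow_add, hnn, mul_zero]
      rfl
  obtain ⟨u, hu, _, _⟩ := exists_factor ι K hKle
  have husurj : Surjective K.subschemeι := ⟨fun y => by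
    obtain ⟨x, rfl⟩ := ι.surjective y
    exact ⟨u x, by rw [← Scheme.Hom.comp_apply, hu]⟩⟩
  haveI : IsAffine K.subscheme := by
    let C' : BasicCover u :=
      { J := C.J
        V := fun l => ⟨K.subschemeι ⁻¹ᵁ V l, (C.V l).2.preimage _⟩
        f := C.f
        trace := fun l => by
          rw [← Scheme.Hom.comp_preimage, hu]; exact C.trace l
        span := C.span }
    have hl : ∀ g ∈ S, ∃ H : Γ(K.subscheme, ⊤), u.appTop H = g := by
      intro g hg
      refine exists_lift_of_family (fun i => K.subschemeι ⁻¹ᵁ V i) (fun z => C.cover _) g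
        (fun i => K.subschemeι.app (V i) (lift i g)) (fun i => ?_) fun i j => ?_
      · have h1 := hlift i g
        have e := ConcreteCategory.congr_hom (Scheme.Hom.congr_app hu (V i)) (lift i g)
        rw [Scheme.Hom.comp_app, CommRingCat.comp_apply, CommRingCat.comp_apply, h1] at e
        refine e.trans ?_
        show res X _ _ = _
        rw [res_res]
        rfl
      · have h1 : δ (i, j) g ∈ K.ideal (W (i, j)) :=
          (Finset.le_sup (f := J) (Finset.mem_univ (i, j)) : J (i, j) ≤ K) (W (i, j))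
            (hJmem (i, j) _ (Finset.mem_image_of_mem _ hg))
        rw [← K.ker_subschemeι_app (W (i, j)), RingHom.mem_ker, map_sub, sub_eq_zero, app_res, app_res] at h1
        exact h1
    exact isAffine_of_lifts u C' a ha
      (fun l => hl _ (Finset.mem_union_left _ (Finset.mem_image_of_mem _ (Finset.mem_univ l))))
      (fun l => hl _ (Finset.mem_union_right _ (Finset.mem_image_of_mem _ (Finset.mem_univ l))))
  exact isAffine_of_nilpotent _ K.subschemeι hKpow

end Groth.Agent.NilAffine

namespace Groth.Agent.NilAffine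

/-- Affineness of morphisms descends along surjective closed immersions at the source. -/
theorem isAffineHom_of_comp {X Y Z : Scheme.{u}} (ι : X ⟶ Y) (g : Y ⟶ Z) [IsClosedImmersion ι]
    [Surjective ι] [IsAffineHom (ι ≫ g)] : IsAffineHom g := by
  refine ⟨fun U hU => ?_⟩
  have h1 : IsAffineOpen (ι ⁻¹ᵁ (g ⁻¹ᵁ U)) := by
    rw [← Scheme.Hom.comp_preimage]; exact hU.preimage _
  haveI : IsAffine (ι ⁻¹ᵁ (g ⁻¹ᵁ U)).toScheme := h1
  haveI : IsClosedImmersion (ι ∣_ (g ⁻¹ᵁ U)) := IsZariskiLocalAtTarget.restrict ‹_› _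
  haveI : Surjective (ι ∣_ (g ⁻¹ᵁ U)) := IsZariskiLocalAtTarget.restrict ‹_› _
  exact isAffine_of_surjective (ι ∣_ (g ⁻¹ᵁ U))

end Groth.Agent.NilAffine
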